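import Cfsg.Agent.H726.Rel.Defs
import Cfsg.Agent.H742.OddMultSpor
import Cfsg.Agent.H341.Rel.PslRow

/-!
# The row `odd` of `Cfsg.Agent.H726.Rel.Rows` (S4985, S4992): assembly

* `exists_odd_stem`: a stem extension whose kernel is divisible by the odd prime `p` has a quotient which is a stem
  extension with a kernel of odd order divisible by `p`;
* `Parts`: the rows of the single families;
* `odd_rows_of`: the field `odd`.
-/

set_option autoImplicit false

namespace Cfsg.Agent.H122.Rel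

open Cfsg Subgroup Cfsg.Agent.H726.Rel Cfsg.Agent.H742.OddMult

universe u v

/-- passage to a kernel of odd order -/
theorem exists_odd_stem {S : Type v} {C : Type u} [Group S] [Group C] [Finite C] {σ : C →* S}
    (hσ : IsStemExtension σ) {p : ℕ} (hp : p.Prime) (hp2 : p ≠ 2) (hd : p ∣ Nat.card σ.ker) :
    ∃ (Γ : Type u) (_ : Group Γ) (_ : Finite Γ) (τ : Γ →* S), IsStemExtension τ ∧ Odd (Nat.card τ.ker) ∧
      p ∣ Nat.card τ.ker := by
  have hfact : Fact (Nat.Prime 2) := ⟨Nat.prime_two⟩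
  obtain ⟨B0⟩ : Nonempty (Sylow 2 σ.ker) := inferInstance
  let B : Subgroup C := (B0 : Subgroup σ.ker).map σ.ker.subtype
  have hBA : B ≤ σ.ker := by
    rintro _ ⟨x, -, rfl⟩
    exact x.2
  have hBZ : B ≤ center C := hBA.trans hσ.2.1
  have hBn : B.Normal := ⟨fun b hb g => by
    rw [mem_center_iff.1 (hBZ hb) g, mul_inv_cancel_right]
    exact hb⟩
  let τ : C ⧸ B →* S := QuotientGroup.lift B σ hBA
  have hk : τ.ker = σ.ker.map (QuotientGroup.mk' B) := QuotientGroup.ker_lift B σ hBA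
  have hcard : Nat.card τ.ker = (B0 : Subgroup σ.ker).index := by
    have h1 : ((QuotientGroup.mk' B).comp σ.ker.subtype).ker = (B0 : Subgroup σ.ker) := by
      ext x
      rw [MonoidHom.mem_ker, MonoidHom.comp_apply, QuotientGroup.mk'_apply, QuotientGroup.eq_one_iff]
      constructor
      · rintro ⟨y, hy, hyx⟩
        rwa [← (Subtype.ext hyx : y = x)]
      · intro h
        exact ⟨x, h, rfl⟩
    have h2 : ((QuotientGroup.mk' B).comp σ.ker.subtype).range = τ.ker := by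
      rw [hk, MonoidHom.range_comp, range_subtype]
    rw [← h2, ← h1, index_ker]
  refine ⟨C ⧸ B, inferInstance, inferInstance, τ, ⟨?_, ?_, ?_⟩, ?_, ?_⟩
  · intro s
    obtain ⟨c, rfl⟩ := hσ.1 s
    exact ⟨QuotientGroup.mk' B c, rfl⟩
  · rw [hk]
    rintro _ ⟨x, hx, rfl⟩
    rw [mem_center_iff]
    intro y
    obtain ⟨y, rfl⟩ := QuotientGroup.mk'_surjective B y
    rw [← map_mul, ← map_mul, mem_center_iff.1 (hσ.2.1 hx) y]
  · rw [hk]
    refine (map_mono hσ.2.2).trans ?_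
    rw [_root_.commutator_def, _root_.commutator_def, map_commutator]
    exact commutator_mono le_top le_top
  · rw [hcard]
    by_contra hne
    rw [Nat.not_odd_iff_even] at hne
    exact B0.not_dvd_index hne.two_dvd
  · rw [hcard]
    have h1 := (B0 : Subgroup σ.ker).card_mul_index
    rw [← h1] at hd
    rcases (hp.dvd_mul).1 hd with h2 | h2
    · obtain ⟨k, hk2⟩ := IsPGroup.iff_card.1 B0.2
      rw [hk2] at h2
      exact absurd ((Nat.prime_dvd_prime_iff_eq hp Nat.prime_two).1 (hp.dvd_of_dvd_pow h2)) hp2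
    · exact h2

/-- the rows of the families -/
structure Parts : Prop where
  a6 : BigClass 3 (alternatingGroup (Fin 6))
  a7 : BigClass 3 (alternatingGroup (Fin 7))
  psu : ∀ {F : Type} [Field F] [Fintype F] {n q : ℕ}, Fintype.card F = q ^ 2 → 3 ≤ n → ¬ (n = 3 ∧ q = 2) →
    OddRow (Cfsg.PSU n F q) (Nat.gcd n (q + 1))
  u43 : ∀ {F : Type} [Field F] [Fintype F], Fintype.card F = 9 → OddRow (Cfsg.PSU 4 F 3) 3
  o73 : ∀ {F : Type} [Field F] [Fintype F], Fintype.card F = 3 →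
    OddRow (Cfsg.POmega F (Cfsg.quadFormOdd 3 F)) 3
  g23 : ∀ {F : Type} [Field F] [Fintype F], Fintype.card F = 3 → OddRow ↥(Cfsg.Lie.chevG2.group F) 3
  e6 : ∀ {F : Type} [Field F] [Fintype F], OddRow ↥(Cfsg.Lie.chevE6.group F) 3
  te6 : ∀ {K : Type} [Field K] [Fintype K] {q : ℕ}, IsPrimePow q → Fintype.card K = q ^ 2 →
    OddRow ↥(Cfsg.Lie.twistedE6 K q) 3
  m22 : ∀ {S : Type u} [Group S], Spor.IsoM22 S → BigClass 3 S
  mcl : ∀ {S : Type u} [Group S], Spor.IsoMcL S → BigClass 3 S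
  suz : ∀ {S : Type u} [Group S], Spor.IsoSuz S → BigClass 3 S
  fi22 : ∀ {S : Type u} [Group S], Spor.IsoFi22 S → BigClass 3 S
  fi24 : ∀ {S : Type u} [Group S], Spor.IsoFi24' S → BigClass 3 S
  on : ∀ {S : Type u} [Group S], Spor.IsoON S → BigClass 3 S
  j3 : ∀ {S : Type u} [Group S], Spor.IsoJ3 S → BigClass 3 S

theorem of_row {S : Type u} [Group S] {T : Type v} [Group T] {m d p : ℕ} (e : Nonempty (S ≃* T)) (h : OddRow T d)
    (hmd : m ∣ d) (hp : p.Prime) (hp2 : p ≠ 2) (hpm : p ∣ m) (hab : AbSylow p S) : p = 3 ∧ BigClass 3 S := by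
  obtain ⟨e⟩ := e
  exact h.congr e.symm p hp hp2 (hpm.trans hmd) hab

/-- **the case distinction** -/
theorem of_oddCase (P : Parts.{u}) {S : Type u} [Group S] {m : ℕ} (h : OddCase S m) {p : ℕ} (hp : p.Prime)
    (hp2 : p ≠ 2) (hpm : p ∣ m) (hab : AbSylow p S) : p = 3 ∧ BigClass 3 S := by
  have h3 : m ∣ 9 → p = 3 := by
    intro hm
    exact (Nat.prime_dvd_prime_iff_eq hp Nat.prime_three).1 (hp.dvd_of_dvd_pow (show p ∣ 3 ^ 2 from hpm.trans hm))
  cases h with
  | alt6 e hm =>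
    obtain ⟨e⟩ := e
    exact ⟨h3 (by rw [hm]; norm_num), P.a6.congr e.symm⟩
  | alt7 e hm =>
    obtain ⟨e⟩ := e
    exact ⟨h3 (by rw [hm]; norm_num), P.a7.congr e.symm⟩
  | psl F _ _ n hn e hm => exact of_row e (H341.Rel.psl_row hn) hm hp hp2 hpm hab
  | psu F _ _ n q hF hn h32 e hm => exact of_row e (P.psu hF hn h32) hm hp hp2 hpm hab
  | psu43 F _ _ hF e hm =>
    have h4 := h3 hm
    subst h4
    exact of_row e (P.u43 (by rw [hF]; norm_num)) (dvd_refl 3) hp hp2 (dvd_refl 3) hab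
  | o73 F _ _ hF e hm => exact of_row e (P.o73 hF) (by rw [hm]) hp hp2 hpm hab
  | g23 F _ _ hF e hm => exact of_row e (P.g23 hF) (by rw [hm]) hp hp2 hpm hab
  | e6 F _ _ hF e hm => exact of_row e P.e6 (by rw [hm]) hp hp2 hpm hab
  | te6 K _ _ q hq hK _ e hm => exact of_row e (P.te6 hq hK) (by rw [hm]) hp hp2 hpm hab
  | m22 h hm => exact ⟨h3 (by rw [hm]; norm_num), P.m22 h⟩
  | mcl h hm => exact ⟨h3 (by rw [hm]; norm_num), P.mcl h⟩
  | suz h hm => exact ⟨h3 (by rw [hm]; norm_num), P.suz h⟩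
  | fi22 h hm => exact ⟨h3 (by rw [hm]; norm_num), P.fi22 h⟩
  | fi24 h hm => exact ⟨h3 (by rw [hm]; norm_num), P.fi24 h⟩
  | on h hm => exact ⟨h3 (by rw [hm]; norm_num), P.on h⟩
  | j3 h hm => exact ⟨h3 (by rw [hm]; norm_num), P.j3 h⟩

/-- **the field `odd` of `Rows`**, given the rows of the families (`hk`: `S0000.result`) -/
theorem odd_rows_of (P : Parts.{u}) (S C : Type u) [Group S] [Finite S] [IsSimpleGroup S] [Group C] [Finite C]
    (hk : Cfsg.IsKnownSimple' S) (σ : C →* S) (hna : ¬ IsMulCommutative S) (hσ : Cfsg.IsStemExtension σ) :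
    Cfsg.Agent.H726.Rel.OddRow S (Nat.card σ.ker) := by
  intro p hp hp2 hpm hab
  obtain ⟨Γ, _, _, τ, hτ, ho, hd⟩ := exists_odd_stem hσ hp hp2 hpm
  have h1 : Nat.card τ.ker ≠ 1 := fun h => hp.one_lt.ne' (Nat.dvd_one.1 (h ▸ hd))
  exact of_oddCase P (odd_cases_known.{u} hna hk Γ τ hτ ho h1) hp hp2 hd hab

end Cfsg.Agent.H122.Rel
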