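import Cfsg.Agent.H122.Rel.Parts
import Cfsg.Agent.H647.Rel.Two
import Cfsg.Agent.S0000

/-!
# The rows about the simple groups for S4985, S4992

`odd_rows`: the field `odd` of `Cfsg.Agent.H726.Rel.Rows`; `rows`: both fields.
-/

set_option autoImplicit false

namespace Cfsg.Agent.H122.Rel

open Cfsg

universe u

/-- **the field `odd`** -/
theorem odd_rows (S C : Type u) [Group S] [Finite S] [IsSimpleGroup S] [Group C] [Finite C]
    (σ : C →* S) : ¬ IsMulCommutative S → Cfsg.IsStemExtension σ →
      Cfsg.Agent.H726.Rel.OddRow S (Nat.card σ.ker) :=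
  fun hna hσ => odd_rows_of parts S C (Cfsg.Agent.S0000.result (G := S)) σ hna hσ

/-- **both fields** -/
theorem rows : Cfsg.Agent.H726.Rel.Rows.{u} where
  two := fun S C _ _ _ _ _ σ hna hσ h2 hab => H647.Rel.two S C σ hna hσ h2 hab
  odd := fun S C _ _ _ _ _ σ hna hσ => odd_rows S C σ hna hσ

end Cfsg.Agent.H122.Rel
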